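import Groth.Prelude.Def_VecGrp
import Groth.Prelude.Def_HopfRep
import Mathlib.AlgebraicGeometry.Group.Affine
import Mathlib.RingTheory.TensorProduct.Basic

/-!
Modules over an affine group scheme `Spec A` and comodules over the Hopf algebra `A`.
-/

set_option autoImplicit false
set_option backward.isDefEq.respectTransparency false
set_option backward.isDefEq.respectTransparency.types false

universe u

noncomputable section

open CategoryTheory MonObj GrpObj AlgebraicGeometry WithConv
open scoped TensorProduct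

namespace Groth.Agent.GModComod

variable {R : Type u} [CommRing R] {A : Type u} [CommRing A] [HopfAlgebra R A]
  {E : Type u} [AddCommGroup E] [Module R E]

variable (R A) in
/-- The group scheme `Spec A` over `Spec R`. -/
abbrev Gp : Over (Spec (CommRingCat.of R)) :=
  (Spec (CommRingCat.of A)).asOver (Spec (CommRingCat.of R))

section Points

variable {B : Type u} [CommRing B] [Algebra R B] {B' : Type u} [CommRing B'] [Algebra R B']

/-- The point of `Spec A` given by an algebra map. -/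
def toPt (f : A →ₐ[R] B) : VecGrp.pt R B ⟶ Gp R A := Spec.mapMulEquiv (toConv f)

/-- The algebra map of a point of `Spec A`. -/
def ofPt (g : VecGrp.pt R B ⟶ Gp R A) : A →ₐ[R] B := (Spec.mapMulEquiv.symm g).ofConv

theorem ofPt_toPt (f : A →ₐ[R] B) : ofPt (toPt f) = f :=
  congrArg WithConv.ofConv (MulEquiv.symm_apply_apply _ (toConv f))

theorem toPt_ofPt (g : VecGrp.pt R B ⟶ Gp R A) : toPt (ofPt g) = g :=
  MulEquiv.apply_symm_apply Spec.mapMulEquiv g

theorem ptMap_toPt (φ : B →ₐ[R] B') (f : A →ₐ[R] B) :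
    VecGrp.ptMap φ ≫ toPt f = toPt (φ.comp f) := by
  refine Over.OverMorphism.ext ?_
  show Spec.map (CommRingCat.ofHom φ.toRingHom) ≫ Spec.map (CommRingCat.ofHom f.toRingHom) =
    Spec.map (CommRingCat.ofHom (φ.comp f).toRingHom)
  rw [← Spec.map_comp]
  rfl

theorem ofPt_ptMap (φ : B →ₐ[R] B') (g : VecGrp.pt R B ⟶ Gp R A) :
    ofPt (VecGrp.ptMap φ ≫ g) = φ.comp (ofPt g) := by
  conv_lhs => rw [← toPt_ofPt g, ptMap_toPt, ofPt_toPt]

theorem ofPt_mul (g h : VecGrp.pt R B ⟶ Gp R A) :
    ofPt (g * h) = (toConv (ofPt g) * toConv (ofPt h)).ofConv :=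
  congrArg WithConv.ofConv (map_mul Spec.mapMulEquiv.symm g h)

theorem ofPt_one : ofPt (1 : VecGrp.pt R B ⟶ Gp R A) = (1 : WithConv (A →ₐ[R] B)).ofConv :=
  congrArg WithConv.ofConv (map_one Spec.mapMulEquiv.symm)

end Points

section Act

variable (δ : E →ₗ[R] E ⊗[R] A) {B : Type u} [CommRing B] [Algebra R B] {B' : Type u}
  [CommRing B'] [Algebra R B']

/-- The endomorphism of `B ⊗ E` by which the point `f` acts through `δ`. -/
def act (f : A →ₐ[R] B) : B ⊗[R] E →ₗ[B] B ⊗[R] E :=
  LinearMap.liftBaseChange B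
    ((TensorProduct.comm R E B).toLinearMap ∘ₗ LinearMap.lTensor E f.toLinearMap ∘ₗ δ)

theorem act_tmul (f : A →ₐ[R] B) (b : B) (x : E) :
    act δ f (b ⊗ₜ x) = b • (TensorProduct.comm R E B) (LinearMap.lTensor E f.toLinearMap (δ x)) :=
  LinearMap.liftBaseChange_tmul _ _ _ _

theorem act_one_tmul (f : A →ₐ[R] B) (x : E) :
    act δ f (1 ⊗ₜ x) = (TensorProduct.comm R E B) (LinearMap.lTensor E f.toLinearMap (δ x)) := by
  rw [act_tmul, one_smul]

theorem ext_one_tmul {F G : B ⊗[R] E →ₗ[B] B ⊗[R] E}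
    (h : ∀ x : E, F (1 ⊗ₜ x) = G (1 ⊗ₜ x)) : F = G := by
  refine LinearMap.ext fun z => ?_
  induction z using TensorProduct.induction_on with
  | zero => simp
  | tmul b x =>
    have e : b ⊗ₜ[R] x = b • ((1 : B) ⊗ₜ[R] x) := by
      rw [TensorProduct.smul_tmul', smul_eq_mul, _root_.mul_one]
    rw [e, map_smul, map_smul, h]
  | add a b ha hb => rw [map_add, map_add, ha, hb]

/-- The product map `A ⊗ A → B` of two points. -/
def pairMap (f g : A →ₐ[R] B) : A ⊗[R] A →ₗ[R] B :=
  LinearMap.mul' R B ∘ₗ TensorProduct.map f.toLinearMap g.toLinearMap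

theorem act_comm_lTensor (f g : A →ₐ[R] B) (z : E ⊗[R] A) :
    act δ f ((TensorProduct.comm R E B) (LinearMap.lTensor E g.toLinearMap z)) =
      (TensorProduct.comm R E B) (LinearMap.lTensor E (pairMap f g)
        ((TensorProduct.assoc R E A A) (LinearMap.rTensor A δ z))) := by
  induction z using TensorProduct.induction_on with
  | zero => simp
  | tmul e a =>
    rw [LinearMap.lTensor_tmul, TensorProduct.comm_tmul, act_tmul, LinearMap.rTensor_tmul]
    show g a • _ = _
    generalize δ e = w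
    induction w using TensorProduct.induction_on with
    | zero => simp
    | tmul e' a' =>
      simp [pairMap, TensorProduct.smul_tmul', mul_comm]
    | add w₁ w₂ h₁ h₂ => simp only [map_add, smul_add, h₁, h₂, TensorProduct.add_tmul]
  | add z₁ z₂ h₁ h₂ => simp only [map_add, h₁, h₂]

theorem conv_toLinearMap (f g : A →ₐ[R] B) :
    (toConv f * toConv g).ofConv.toLinearMap =
      pairMap f g ∘ₗ (CoalgebraStruct.comul (R := R) (A := A)) := by
  refine LinearMap.ext fun a => ?_
  show (toConv f * toConv g) a = _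
  rw [AlgHom.convMul_def]
  show Algebra.TensorProduct.lmul' R (Algebra.TensorProduct.map f g
    (CoalgebraStruct.comul (R := R) a)) = pairMap f g (CoalgebraStruct.comul (R := R) a)
  generalize CoalgebraStruct.comul (R := R) a = w
  induction w using TensorProduct.induction_on with
  | zero => simp
  | tmul x y => simp [pairMap]
  | add w₁ w₂ h₁ h₂ => simp only [map_add, h₁, h₂]

theorem act_convMul (hco : (TensorProduct.assoc R E A A).toLinearMap ∘ₗ δ.rTensor A ∘ₗ δ =
      (CoalgebraStruct.comul (R := R) (A := A)).lTensor E ∘ₗ δ) (f g : A →ₐ[R] B) :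
    act δ (toConv f * toConv g).ofConv = act δ f * act δ g := by
  refine ext_one_tmul fun x => ?_
  rw [Module.End.mul_apply, act_one_tmul, act_one_tmul, act_comm_lTensor, conv_toLinearMap,
    LinearMap.lTensor_comp, LinearMap.comp_apply]
  congr 2
  exact (LinearMap.congr_fun hco x).symm

theorem act_convOne (hcu : (CoalgebraStruct.counit (R := R) (A := A)).lTensor E ∘ₗ δ =
      (TensorProduct.mk R E R).flip 1) :
    act δ (1 : WithConv (A →ₐ[R] B)).ofConv = 1 := by
  refine ext_one_tmul fun x => ?_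
  have h1 : (1 : WithConv (A →ₐ[R] B)).ofConv.toLinearMap =
      Algebra.linearMap R B ∘ₗ (CoalgebraStruct.counit (R := R) (A := A)) :=
    LinearMap.ext fun a => AlgHom.convOne_apply (R := R) (A := B) (C := A) a
  rw [act_one_tmul, h1, LinearMap.lTensor_comp, LinearMap.comp_apply,
    ← LinearMap.comp_apply ((CoalgebraStruct.counit (R := R) (A := A)).lTensor E) δ, hcu]
  simp

theorem Wmap_act (φ : B →ₐ[R] B') (f : A →ₐ[R] B) (z : B ⊗[R] E) :
    VecGrp.Wmap φ (act δ f z) = act δ (φ.comp f) (VecGrp.Wmap φ z) := by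
  induction z using TensorProduct.induction_on with
  | zero => simp
  | tmul b x =>
    rw [act_tmul, VecGrp.Wmap_smul, VecGrp.Wmap_tmul, act_tmul]
    congr 1
    generalize δ x = w
    induction w using TensorProduct.induction_on with
    | zero => simp
    | tmul e a => rfl
    | add w₁ w₂ h₁ h₂ => simp only [map_add, h₁, h₂]
  | add z₁ z₂ h₁ h₂ => simp only [map_add, h₁, h₂]

end Act

section OfComod

variable (δ : E →ₗ[R] E ⊗[R] A)
  (hco : (TensorProduct.assoc R E A A).toLinearMap ∘ₗ δ.rTensor A ∘ₗ δ =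
      (CoalgebraStruct.comul (R := R) (A := A)).lTensor E ∘ₗ δ)
  (hcu : (CoalgebraStruct.counit (R := R) (A := A)).lTensor E ∘ₗ δ =
      (TensorProduct.mk R E R).flip 1)

/-- The action as a monoid homomorphism. -/
def actHom (B : Type u) [CommRing B] [Algebra R B] :
    (VecGrp.pt R B ⟶ Gp R A) →* Module.End B (B ⊗[R] E) where
  toFun g := act δ (ofPt g)
  map_one' := by rw [ofPt_one]; exact act_convOne δ hcu
  map_mul' g h := by rw [ofPt_mul]; exact act_convMul δ hco (ofPt g) (ofPt h)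

/-- The module structure on `E` defined by a coaction. -/
def gmod : VecGrp.GMod (Gp R A) E where
  ρ B _ _ := (LinearMap.GeneralLinearGroup.generalLinearEquiv B (B ⊗[R] E)).toMonoidHom.comp
    (actHom δ hco hcu B).toHomUnits
  naturality {B B'} _ _ _ _ φ g x := by
    show VecGrp.Wmap φ (act δ (ofPt g) x) = act δ (ofPt (VecGrp.ptMap φ ≫ g)) (VecGrp.Wmap φ x)
    rw [ofPt_ptMap, Wmap_act]

theorem gmod_apply (B : Type u) [CommRing B] [Algebra R B] (g : VecGrp.pt R B ⟶ Gp R A)
    (x : B ⊗[R] E) : (gmod δ hco hcu).ρ B g x = act δ (ofPt g) x := rfl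

end OfComod

theorem gmod_ext {m m' : VecGrp.GMod (Gp R A) E}
    (h : ∀ (B : Type u) [CommRing B] [Algebra R B] (g : VecGrp.pt R B ⟶ Gp R A) (x : E),
      m.ρ B g ((1 : B) ⊗ₜ[R] x) = m'.ρ B g ((1 : B) ⊗ₜ[R] x)) : m = m' := by
  obtain ⟨ρ, hn⟩ := m
  obtain ⟨ρ', hn'⟩ := m'
  have e : ρ = ρ' := by
    funext B i1 i2
    refine MonoidHom.ext fun g => ?_
    refine LinearEquiv.toLinearMap_injective ?_
    exact ext_one_tmul fun x => h B g x
  subst e
  rfl

section ToComod

variable (m : VecGrp.GMod (Gp R A) E)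

/-- The coaction read at the tautological point. -/
def coactOf : E →ₗ[R] E ⊗[R] A :=
  (TensorProduct.comm R E A).symm.toLinearMap ∘ₗ
    (m.ρ A (toPt (AlgHom.id R A))).toLinearMap.restrictScalars R ∘ₗ TensorProduct.mk R A E 1

theorem coactOf_apply (x : E) : coactOf m x =
    (TensorProduct.comm R E A).symm (m.ρ A (toPt (AlgHom.id R A)) ((1 : A) ⊗ₜ[R] x)) := rfl

theorem Wmap_eq {B : Type u} [CommRing B] [Algebra R B] (f : A →ₐ[R] B) (z : A ⊗[R] E) :
    VecGrp.Wmap f z = (TensorProduct.comm R E B)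
      (LinearMap.lTensor E f.toLinearMap ((TensorProduct.comm R E A).symm z)) := by
  induction z using TensorProduct.induction_on with
  | zero => simp
  | tmul a e => simp
  | add z₁ z₂ h₁ h₂ => simp only [map_add, h₁, h₂]

theorem rho_one_tmul (B : Type u) [CommRing B] [Algebra R B] (g : VecGrp.pt R B ⟶ Gp R A) (x : E) :
    m.ρ B g ((1 : B) ⊗ₜ[R] x) =
      (TensorProduct.comm R E B) (LinearMap.lTensor E (ofPt g).toLinearMap (coactOf m x)) := by
  have h := m.naturality (ofPt g) (toPt (AlgHom.id R A)) ((1 : A) ⊗ₜ[R] x)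
  have e1 : VecGrp.ptMap (ofPt g) ≫ toPt (AlgHom.id R A) = g := by
    rw [ptMap_toPt, AlgHom.comp_id, toPt_ofPt]
  rw [e1, VecGrp.Wmap_tmul, map_one, Wmap_eq] at h
  rw [← h, coactOf_apply]

theorem coactOf_counit : (CoalgebraStruct.counit (R := R) (A := A)).lTensor E ∘ₗ coactOf m =
    (TensorProduct.mk R E R).flip 1 := by
  refine LinearMap.ext fun x => ?_
  apply (TensorProduct.comm R E R).injective
  have h := rho_one_tmul m R 1 x
  rw [map_one, ofPt_one] at h
  have h1 : (1 : WithConv (A →ₐ[R] R)).ofConv.toLinearMap =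
      (CoalgebraStruct.counit (R := R) (A := A)) :=
    LinearMap.ext fun a => AlgHom.convOne_apply (R := R) (A := R) (C := A) a
  rw [h1] at h
  exact h.symm

theorem coactOf_coassoc :
    (TensorProduct.assoc R E A A).toLinearMap ∘ₗ (coactOf m).rTensor A ∘ₗ coactOf m =
      (CoalgebraStruct.comul (R := R) (A := A)).lTensor E ∘ₗ coactOf m := by
  refine LinearMap.ext fun x => ?_
  apply (TensorProduct.comm R E (A ⊗[R] A)).injective
  let i₁ : A →ₐ[R] A ⊗[R] A := Algebra.TensorProduct.includeLeft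
  let i₂ : A →ₐ[R] A ⊗[R] A := Algebra.TensorProduct.includeRight
  have hp : pairMap i₁ i₂ = LinearMap.id := by
    refine TensorProduct.ext' fun a b => ?_
    simp [pairMap, i₁, i₂]
  have key : ∀ z, (m.ρ (A ⊗[R] A) (toPt i₁)).toLinearMap z = act (coactOf m) i₁ z := by
    intro z
    refine LinearMap.congr_fun (ext_one_tmul fun y => ?_) z
    rw [act_one_tmul]
    refine (rho_one_tmul m _ _ y).trans ?_
    rw [ofPt_toPt]
  have h := rho_one_tmul m (A ⊗[R] A) (toPt i₁ * toPt i₂) x
  rw [map_mul, ofPt_mul, ofPt_toPt, ofPt_toPt, conv_toLinearMap, hp, LinearMap.id_comp] at h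
  have h' : (m.ρ (A ⊗[R] A) (toPt i₁)).toLinearMap
      ((m.ρ (A ⊗[R] A) (toPt i₂)) ((1 : A ⊗[R] A) ⊗ₜ[R] x)) = _ := h
  rw [key, rho_one_tmul m _ (toPt i₂) x, ofPt_toPt, act_comm_lTensor, hp,
    LinearMap.lTensor_id] at h'
  exact h'

end ToComod

theorem correspond (R : Type u) [CommRing R] (A : Type u) [CommRing A] [HopfAlgebra R A]
    (E : Type u) [AddCommGroup E] [Module R E] :
    (∀ [HopfRep.Comod R A E], ∃! m : VecGrp.GMod (Gp R A) E,
      (∀ (B : Type u) [CommRing B] [Algebra R B] (g : VecGrp.pt R B ⟶ Gp R A) (x : E),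
        m.ρ B g ((1 : B) ⊗ₜ[R] x) =
          (TensorProduct.comm R E B) (LinearMap.lTensor E (ofPt g).toLinearMap
            (HopfRep.Comod.coact (k := R) (A := A) x)))) ∧
    (∀ m : VecGrp.GMod (Gp R A) E, ∃! δ : E →ₗ[R] E ⊗[R] A,
      ((TensorProduct.assoc R E A A).toLinearMap ∘ₗ δ.rTensor A ∘ₗ δ =
          (CoalgebraStruct.comul (R := R) (A := A)).lTensor E ∘ₗ δ ∧
        (CoalgebraStruct.counit (R := R) (A := A)).lTensor E ∘ₗ δ =
          (TensorProduct.mk R E R).flip 1) ∧
      (∀ (B : Type u) [CommRing B] [Algebra R B] (g : VecGrp.pt R B ⟶ Gp R A) (x : E),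
        m.ρ B g ((1 : B) ⊗ₜ[R] x) =
          (TensorProduct.comm R E B) (LinearMap.lTensor E (ofPt g).toLinearMap (δ x)))) := by
  refine ⟨fun {i} => ?_, fun m => ?_⟩
  · refine ⟨gmod (HopfRep.Comod.coact (k := R) (A := A)) HopfRep.Comod.coassoc
      HopfRep.Comod.counit_comp, fun B _ _ g x => ?_, fun m' hm' => ?_⟩
    · rw [gmod_apply, act_one_tmul]
    · refine gmod_ext fun B _ _ g x => ?_
      rw [hm' B g x, gmod_apply, act_one_tmul]
  · refine ⟨coactOf m, ⟨⟨coactOf_coassoc m, coactOf_counit m⟩,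
      fun B _ _ g x => rho_one_tmul m B g x⟩, fun δ hδ => ?_⟩
    refine LinearMap.ext fun x => ?_
    rw [coactOf_apply, hδ.2, ofPt_toPt, AlgHom.toLinearMap_id, LinearMap.lTensor_id,
      LinearMap.id_apply, LinearEquiv.symm_apply_apply]

end Groth.Agent.GModComod
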